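import Mathlib.Algebra.Homology.DerivedCategory.Fractions
import Mathlib.Algebra.Homology.Refinements

/-! Morphisms in the derived category from an object placed in the lowest degree of a bounded below complex. -/

set_option autoImplicit false

universe w v u

open CategoryTheory CategoryTheory.Limits HomologicalComplex

namespace Groth.Agent.H26Hyper

variable {A : Type u} [Category.{v} A] [Abelian A]

section
variable {L L' : CochainComplex A ℤ} {n m : ℤ}

lemma isIso_homologyπ_bottom [L.IsStrictlyGE n] : IsIso (L.homologyπ n) :=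
  L.isIso_homologyπ (n - 1) n (by simp) ((L.isZero_of_isStrictlyGE n (n - 1) (by omega)).eq_of_src _ _)

/-- A cochain lifts along a quasi-isomorphism of complexes concentrated in degrees `≥ m = n - 1`. -/
lemma exists_lift_boundary (hmn : m + 1 = n) [L.IsStrictlyGE m] [L'.IsStrictlyGE m] (s : L ⟶ L')
    [QuasiIso s] {T : A} (a : T ⟶ L.X n) (ha : ∀ k, n + 1 = k → a ≫ L.d n k = 0)
    (h : T ⟶ L'.X m) (hh : h ≫ L'.d m n = a ≫ s.f n) :
    ∃ b : T ⟶ L.X m, b ≫ L.d m n = a := by
  haveI := isIso_homologyπ_bottom (L := L) (n := m)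
  haveI := isIso_homologyπ_bottom (L := L') (n := m)
  have hn : (ComplexShape.up ℤ).next m = n := by simp [← hmn]
  have hn' : (ComplexShape.up ℤ).next n = n + 1 := by simp
  have hp : (ComplexShape.up ℤ).prev n = m := by simp [← hmn]
  let u : L.X m ⟶ pullback (L'.d m n) (L.iCycles n ≫ s.f n) :=
    pullback.lift (s.f m) (L.toCycles m n) (by rw [toCycles_i_assoc]; exact s.comm m n)
  have hu₁ : u ≫ pullback.fst _ _ = s.f m := pullback.lift_fst ..
  have hu₂ : u ≫ pullback.snd _ _ = L.toCycles m n := pullback.lift_snd ..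
  have hcond : pullback.fst (L'.d m n) (L.iCycles n ≫ s.f n) ≫ L'.d m n =
      pullback.snd _ _ ≫ L.iCycles n ≫ s.f n := pullback.condition
  haveI : Mono u := by
    rw [Preadditive.mono_iff_cancel_zero]
    intro Z x hx
    have h1 : x ≫ s.f m = 0 := by rw [← hu₁, reassoc_of% hx, zero_comp]
    have h2 : x ≫ L.d m n = 0 := by
      rw [← toCycles_i L m n, ← hu₂, Category.assoc, reassoc_of% hx, zero_comp]
    have h3 : L.liftCycles x n hn h2 ≫ cyclesMap s m = 0 := by
      rw [← cancel_mono (L'.iCycles m), Category.assoc, cyclesMap_i, liftCycles_i_assoc, h1, zero_comp]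
    have h4 : L.liftCycles x n hn h2 ≫ L.homologyπ m = 0 := by
      rw [← cancel_mono (homologyMap s m), Category.assoc, homologyπ_naturality, reassoc_of% h3,
        zero_comp, zero_comp]
    rw [← L.liftCycles_i x n hn h2, (cancel_mono (L.homologyπ m)).1 (h4.trans zero_comp.symm), zero_comp]
  haveI : Epi u := by
    rw [epi_iff_surjective_up_to_refinements]
    intro Z p
    let y := p ≫ pullback.fst (L'.d m n) (L.iCycles n ≫ s.f n)
    let z := p ≫ pullback.snd (L'.d m n) (L.iCycles n ≫ s.f n)
    have hyz : z ≫ cyclesMap s n = y ≫ L'.toCycles m n := by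
      rw [← cancel_mono (L'.iCycles n)]
      simp only [y, z, Category.assoc, cyclesMap_i, toCycles_i, hcond]
    have hz : z ≫ L.homologyπ n = 0 := by
      rw [← cancel_mono (homologyMap s n), Category.assoc, homologyπ_naturality, reassoc_of% hyz,
        toCycles_comp_homologyπ, comp_zero, zero_comp]
    obtain ⟨Z', π, hπ, x, hx⟩ := (L.comp_homologyπ_eq_zero_iff_up_to_refinements m n hp z).1 hz
    let w := π ≫ y - x ≫ s.f m
    have hw : w ≫ L'.d m n = 0 := by
      have h5 : x ≫ L.d m n = π ≫ z ≫ L.iCycles n := by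
        rw [reassoc_of% hx, toCycles_i]
      rw [Preadditive.sub_comp, sub_eq_zero]
      simp only [y, z, Category.assoc, hcond, s.comm m n, reassoc_of% h5]
    let c := L'.liftCycles w n hn hw ≫ L'.homologyπ m ≫ inv (homologyMap s m) ≫ inv (L.homologyπ m)
    have hc : c ≫ cyclesMap s m = L'.liftCycles w n hn hw := by
      rw [← cancel_mono (L'.homologyπ m)]
      simp only [c, Category.assoc, ← homologyπ_naturality, IsIso.inv_hom_id_assoc, IsIso.inv_hom_id,
        Category.comp_id]
    have hc' : c ≫ L.iCycles m ≫ s.f m = w := by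
      rw [← cyclesMap_i, reassoc_of% hc, liftCycles_i]
    refine ⟨Z', π, hπ, x + c ≫ L.iCycles m, ?_⟩
    apply pullback.hom_ext
    · simp only [Category.assoc, hu₁, Preadditive.add_comp, hc', w]
      simp [y]
    · simp only [Category.assoc, hu₂, Preadditive.add_comp]
      rw [← cancel_mono (L.iCycles n)]
      simp only [Preadditive.add_comp, Category.assoc, toCycles_i, iCycles_d, comp_zero, add_zero]
      have h5 := congrArg (· ≫ L.iCycles n) hx
      simpa [z] using h5
  haveI : IsIso u := isIso_of_mono_of_epi u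
  let p : T ⟶ pullback (L'.d m n) (L.iCycles n ≫ s.f n) :=
    pullback.lift h (L.liftCycles a (n + 1) hn' (ha _ rfl)) (by rw [liftCycles_i_assoc, hh])
  refine ⟨p ≫ inv u, ?_⟩
  have hu : u ≫ pullback.snd _ _ ≫ L.iCycles n = L.d m n := by rw [reassoc_of% hu₂, toCycles_i]
  rw [← hu, Category.assoc, IsIso.inv_hom_id_assoc, pullback.lift_snd_assoc, liftCycles_i]

end

variable [HasDerivedCategory.{w} A]

/-- Morphisms from `T[-n]` into a complex in degrees `≥ n` are morphisms of complexes. -/
lemma exists_map_eq {L : CochainComplex A ℤ} {n : ℤ} [L.IsStrictlyGE n] {T : A}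
    (x : DerivedCategory.Q.obj ((single A (ComplexShape.up ℤ) n).obj T) ⟶ DerivedCategory.Q.obj L) :
    ∃ φ, DerivedCategory.Q.map φ = x := by
  obtain ⟨L', hL', g, s, hs, rfl⟩ := DerivedCategory.left_fac_of_isStrictlyGE x n
  haveI : QuasiIso s := (DerivedCategory.isIso_Q_map_iff_quasiIso _ s).1 hs
  haveI := isIso_homologyπ_bottom (L := L) (n := n)
  haveI := isIso_homologyπ_bottom (L := L') (n := n)
  let g₀ : T ⟶ L'.X n := (singleObjXSelf (ComplexShape.up ℤ) n T).inv ≫ g.f n
  have hg₀ : g₀ ≫ L'.d n (n + 1) = 0 := by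
    simp only [g₀, Category.assoc, g.comm]
    simp
  let c := L'.liftCycles g₀ (n + 1) (by simp) hg₀ ≫ L'.homologyπ n ≫ inv (homologyMap s n) ≫ inv (L.homologyπ n)
  have hc : c ≫ L.iCycles n ≫ s.f n = g₀ := by
    have h1 : c ≫ cyclesMap s n = L'.liftCycles g₀ (n + 1) (by simp) hg₀ := by
      rw [← cancel_mono (L'.homologyπ n)]
      simp only [c, Category.assoc, ← homologyπ_naturality, IsIso.inv_hom_id_assoc, IsIso.inv_hom_id,
        Category.comp_id]
    rw [← cyclesMap_i, reassoc_of% h1, liftCycles_i]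
  refine ⟨mkHomFromSingle (c ≫ L.iCycles n) (fun k hk => by simp), ?_⟩
  rw [← cancel_mono (DerivedCategory.Q.map s)]
  simp only [Category.assoc, IsIso.inv_hom_id, Category.comp_id, ← Functor.map_comp]
  congr 1
  refine from_single_hom_ext ?_
  rw [comp_f, mkHomFromSingle_f, Category.assoc, Category.assoc, hc]
  simp [g₀]

/-- A morphism from `T[-n]` vanishing in the derived category is the boundary of a cochain. -/
lemma exists_boundary {L : CochainComplex A ℤ} {n m : ℤ} (hmn : m + 1 = n) [L.IsStrictlyGE m] {T : A}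
    (φ : (single A (ComplexShape.up ℤ) n).obj T ⟶ L) (hφ : DerivedCategory.Q.map φ = 0) :
    ∃ b : T ⟶ L.X m, b ≫ L.d m n = (singleObjXSelf (ComplexShape.up ℤ) n T).inv ≫ φ.f n := by
  let q := HomotopyCategory.quotient A (ComplexShape.up ℤ)
  have h1 : DerivedCategory.Qh.map (q.map φ) = DerivedCategory.Qh.map (q.map 0) := by
    rw [← cancel_mono ((DerivedCategory.quotientCompQhIso A).hom.app L)]
    erw [DerivedCategory.quotientCompQhIso_hom_naturality, DerivedCategory.quotientCompQhIso_hom_naturality]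
    rw [hφ, DerivedCategory.Q.map_zero]
  obtain ⟨Z, t, ht, fac⟩ := (MorphismProperty.map_eq_iff_postcomp DerivedCategory.Qh
    (HomotopyCategory.quasiIso A (ComplexShape.up ℤ)) _ _).1 h1
  obtain ⟨Z₀, rfl⟩ := HomotopyCategory.quotient_obj_surjective Z
  obtain ⟨t₀, rfl⟩ := q.map_surjective t
  haveI : IsIso (DerivedCategory.Q.map t₀) :=
    (NatIso.isIso_map_iff (DerivedCategory.quotientCompQhIso A) t₀).1
      (Localization.inverts DerivedCategory.Qh (HomotopyCategory.quasiIso A (ComplexShape.up ℤ)) _ ht)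
  haveI : QuasiIso t₀ := (DerivedCategory.isIso_Q_map_iff_quasiIso _ t₀).1 inferInstance
  haveI : L.IsGE m := inferInstance
  haveI : CochainComplex.IsGE Z₀ m := by
    rw [CochainComplex.isGE_iff]
    intro i hi
    exact (exactAt_iff_of_quasiIsoAt t₀ i).1 (L.exactAt_of_isGE m i hi)
  let s := t₀ ≫ CochainComplex.πTruncGE Z₀ m
  haveI : QuasiIso s := inferInstance
  rw [q.map_zero, zero_comp, ← Functor.map_comp, HomotopyCategory.quotient_map_eq_zero_iff] at fac
  obtain ⟨H⟩ := fac
  let H' := H.compRight (CochainComplex.πTruncGE Z₀ m)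
  have key := H'.comm n
  rw [dNext_eq _ (show (ComplexShape.up ℤ).Rel n (n + 1) from rfl),
    prevD_eq _ (show (ComplexShape.up ℤ).Rel m n from hmn)] at key
  refine exists_lift_boundary hmn s _ (fun k hk => ?_)
    ((singleObjXSelf (ComplexShape.up ℤ) n T).inv ≫ H'.hom n m) ?_
  · subst hk
    rw [Category.assoc, φ.comm]
    simp
  · simp only [s, comp_f, Category.assoc] at key ⊢
    simp only [single_obj_d, zero_comp, zero_add, comp_zero, zero_f, add_zero] at key
    rw [key]

end Groth.Agent.H26Hyper
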