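import Groth.Agent.H26Hyper.Basic
import Groth.Agent.H26Hyper.Chase

/-! Hypercohomology of a complex with acyclic terms is computed by the complex of sections. -/

set_option autoImplicit false

universe w w' v u

open CategoryTheory CategoryTheory.Limits CategoryTheory.Pretriangulated HomologicalComplex E1Deg

namespace Groth.Agent.H26Hyper

variable {A : Type u} [Category.{v} A] [Abelian A] [HasDerivedCategory.{w} A] {T : A}

/-- Exactness at the first term of a short exact sequence of complexes. -/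
lemma HTmap_injective_of_subsingleton {S : ShortComplex (CochainComplex A ℤ)} (hS : S.ShortExact) (n m : ℤ)
    (hm : m + 1 = n) (h₃ : Subsingleton (HT T S.X₃ m)) : Function.Injective (HTmap T S.f n) := by
  rw [injective_iff_map_eq_zero]
  intro x hx
  have hT := inv_rot_of_distTriang _
    (Triangle.shift_distinguished _ (DerivedCategory.triangleOfSES_distinguished hS) n)
  obtain ⟨y, hy⟩ := Triangle.coyoneda_exact₂ _ hT x (by
    show x ≫ (n.negOnePow • (shiftFunctor (DerivedCategory A) n).map (DerivedCategory.Q.map S.f) :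
      (shiftFunctor (DerivedCategory A) n).obj (DerivedCategory.Q.obj S.X₁) ⟶ _) = 0
    rw [Units.smul_def, Preadditive.comp_zsmul]
    rw [HTmap_apply] at hx
    erw [hx]
    exact smul_zero _)
  have hy0 : y = 0 := by
    let e : (shiftFunctor (DerivedCategory A) (-1 : ℤ)).obj
        ((shiftFunctor (DerivedCategory A) n).obj (DerivedCategory.Q.obj S.X₃)) ≅
        (shiftFunctor (DerivedCategory A) m).obj (DerivedCategory.Q.obj S.X₃) :=
      ((shiftFunctorAdd' (DerivedCategory A) n (-1) m (by omega)).app _).symm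
    exact (cancel_mono e.hom).1 (h₃.elim _ _)
  rw [hy, hy0]
  exact zero_comp

lemma isStrictlyGE_sigmaGE (K : CochainComplex A ℤ) (i : ℤ) : (sigmaGE K i).IsStrictlyGE i :=
  (CochainComplex.isStrictlyGE_iff _ _).2 fun _ hm => isZero_sigmaGE_of_lt K hm

lemma surjective_HTmap_sigmaGEι [HasExt.{w'} A] (K : CochainComplex A ℤ) (n : ℤ)
    (h : ∀ (p : ℤ) (q : ℕ), p < n → p + q = n → Subsingleton (Abelian.Ext.{w'} T (K.X p) q)) :
    ∀ (j : ℕ) (i : ℤ), i + j = n → ∀ x : HT T (sigmaGE K i) n, ∃ y : HT T (sigmaGE K n) n,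
      HTmap T (sigmaGEι K n) n y = HTmap T (sigmaGEι K i) n x := by
  intro j
  induction j with
  | zero =>
    intro i hi x
    obtain rfl : i = n := by omega
    exact ⟨x, rfl⟩
  | succ j ih =>
    intro i hi x
    haveI := h i (n - i).toNat (by omega) (by omega)
    have h₃ : Subsingleton (HT T (stepSES K i).X₃ n) :=
      (HTsingleEquiv T (K.X i) i n (n - i).toNat (by omega)).toEquiv.subsingleton
    obtain ⟨x', rfl⟩ := HTmap_exact (stepSES_shortExact K i) n x (h₃.elim _ _)
    obtain ⟨y, hy⟩ := ih (i + 1) (by omega) x'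
    exact ⟨y, by rw [hy, ← sigmaGEιSucc_comp_ι, HTmap_comp]⟩

lemma injective_HTmap_sigmaGEι [HasExt.{w'} A] (K : CochainComplex A ℤ) (n : ℤ)
    (h : ∀ (p : ℤ) (q : ℕ), p + 1 < n → p + q + 1 = n → Subsingleton (Abelian.Ext.{w'} T (K.X p) q)) :
    ∀ (j : ℕ) (i : ℤ), i + j + 1 = n → ∀ x : HT T (sigmaGE K (n - 1)) n,
      HTmap T (sigmaGEι K (n - 1)) n x = 0 →
        ∃ y : HT T (sigmaGE K i) n, HTmap T (sigmaGEι K i) n y = 0 ∧ (y = 0 → x = 0) := by
  intro j
  induction j with
  | zero =>
    intro i hi x hx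
    obtain rfl : i = n - 1 := by omega
    exact ⟨x, hx, id⟩
  | succ j ih =>
    intro i hi x hx
    obtain ⟨y, hy, hyx⟩ := ih (i + 1) (by omega) x hx
    haveI := h i (n - 1 - i).toNat (by omega) (by omega)
    have hinj := HTmap_injective_of_subsingleton (stepSES_shortExact K i) n (n - 1) (by omega)
      (HTsingleEquiv T (K.X i) i (n - 1) (n - 1 - i).toNat (by omega)).toEquiv.subsingleton
    refine ⟨HTmap T (sigmaGEιSucc K i) n y, by rw [← HTmap_comp, sigmaGEιSucc_comp_ι, hy], fun h0 => ?_⟩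
    exact hyx (hinj (by rw [h0, map_zero]))

/-- The tautological class of `T[-n]` in degree `n`. -/
noncomputable def unitHT (T : A) (n : ℤ) :
    HT T ((single A (ComplexShape.up ℤ) n).obj T) n :=
  (shiftFunctorZero (DerivedCategory A) ℤ).inv.app _ ≫ (targetIso T n n 0 (by simp)).inv

/-- The class of a morphism of complexes from `T[-n]`. -/
noncomputable def clsHT {n : ℤ} {K : CochainComplex A ℤ} (φ : (single A (ComplexShape.up ℤ) n).obj T ⟶ K) :
    HT T K n :=
  HTmap T φ n (unitHT T n)

instance isIso_unitHT (T : A) (n : ℤ) : IsIso (unitHT T n) :=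
  (((shiftFunctorZero (DerivedCategory A) ℤ).app ((DerivedCategory.singleFunctor A 0).obj T)).symm ≪≫
    (targetIso T n n 0 (by simp)).symm).isIso_hom

lemma clsHT_add {n : ℤ} {K : CochainComplex A ℤ} (φ ψ : (single A (ComplexShape.up ℤ) n).obj T ⟶ K) :
    clsHT (φ + ψ) = clsHT φ + clsHT ψ := by
  simp only [clsHT, HTmap_apply, Functor.map_add, Preadditive.comp_add]

lemma clsHT_eq_zero_iff {n : ℤ} {K : CochainComplex A ℤ} (φ : (single A (ComplexShape.up ℤ) n).obj T ⟶ K) :
    clsHT φ = 0 ↔ DerivedCategory.Q.map φ = 0 := by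
  simp only [clsHT, HTmap_apply]
  constructor
  · intro h
    refine (shiftFunctor (DerivedCategory A) n).map_injective ?_
    rw [Functor.map_zero]
    exact (cancel_epi (unitHT T n)).1 (h.trans comp_zero.symm)
  · intro h
    rw [h, Functor.map_zero, comp_zero]

lemma exists_clsHT_eq {n : ℤ} {L : CochainComplex A ℤ} [L.IsStrictlyGE n] (x : HT T L n) :
    ∃ φ, clsHT φ = x := by
  obtain ⟨z, hz⟩ := (shiftFunctor (DerivedCategory A) n).map_surjective (inv (unitHT T n) ≫ x)
  obtain ⟨φ, rfl⟩ := exists_map_eq z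
  exact ⟨φ, by rw [clsHT, HTmap_apply, hz, IsIso.hom_inv_id_assoc]⟩

/-- The morphism of complexes attached to a cocycle. -/
noncomputable def cocycleMap {n : ℤ} {K : CochainComplex A ℤ} (a : T ⟶ K.X n) (ha : a ≫ K.d n (n + 1) = 0) :
    (single A (ComplexShape.up ℤ) n).obj T ⟶ K :=
  mkHomFromSingle a (fun k hk => by obtain rfl : n + 1 = k := hk; exact ha)

/-- The subgroup of cocycles among the sections. -/
def cocycles (T : A) (K : CochainComplex A ℤ) (n : ℤ) : AddSubgroup (T ⟶ K.X n) :=
  (Preadditive.rightComp T (K.d n (n + 1))).ker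

/-- Cocycles map to hypercohomology. -/
noncomputable def cocycleHom (T : A) (K : CochainComplex A ℤ) (n : ℤ) : cocycles T K n →+ HT T K n :=
  AddMonoidHom.mk' (fun a => clsHT (cocycleMap a.1 a.2)) fun a b => by
    rw [← clsHT_add]
    congr 1
    refine from_single_hom_ext ?_
    simp [cocycleMap]

/-- With acyclic terms every class is the class of a cocycle. -/
theorem surjective_cocycleHom [HasExt.{w'} A] (K : CochainComplex A ℤ) (a n : ℤ)
    (ha : ∀ m, m < a → IsZero (K.X m))
    (h : ∀ (p : ℤ) (q : ℕ), p < n → p + q = n → Subsingleton (Abelian.Ext.{w'} T (K.X p) q)) :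
    Function.Surjective (cocycleHom T K n) := by
  intro x
  obtain ⟨y, hy⟩ : ∃ y, HTmap T (sigmaGEι K n) n y = x := by
    by_cases han : n ≤ a
    · haveI := isIso_sigmaGEι K n (fun m hm => ha m (by omega))
      exact ⟨HTmap T (inv (sigmaGEι K n)) n x, by rw [← HTmap_comp, IsIso.inv_hom_id, HTmap_id]⟩
    · haveI := isIso_sigmaGEι K a ha
      obtain ⟨y, hy⟩ := surjective_HTmap_sigmaGEι K n h (n - a).toNat a (by omega)
        (HTmap T (inv (sigmaGEι K a)) n x)
      exact ⟨y, by rw [hy, ← HTmap_comp, IsIso.inv_hom_id, HTmap_id]⟩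
  haveI := isStrictlyGE_sigmaGE K n
  obtain ⟨φ, rfl⟩ := exists_clsHT_eq y
  let ψ := φ ≫ sigmaGEι K n
  have hψ : ((singleObjXSelf (ComplexShape.up ℤ) n T).inv ≫ ψ.f n) ∈ cocycles T K n := by
    show _ ≫ K.d n (n + 1) = 0
    rw [Category.assoc, ψ.comm]
    simp
  refine ⟨⟨_, hψ⟩, ?_⟩
  rw [← hy]
  show clsHT (cocycleMap _ _) = HTmap T (sigmaGEι K n) n (HTmap T φ n (unitHT T n))
  rw [← HTmap_comp]
  show HTmap T _ n _ = HTmap T ψ n _
  congr 1
  refine congrArg (fun g => HTmap T g n) (from_single_hom_ext ?_)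
  simp [cocycleMap]

/-- With acyclic terms a cocycle is zero in hypercohomology iff it is a coboundary. -/
theorem cocycleHom_eq_zero_iff [HasExt.{w'} A] (K : CochainComplex A ℤ) (a n : ℤ)
    (ha : ∀ m, m < a → IsZero (K.X m))
    (h : ∀ (p : ℤ) (q : ℕ), p + 1 < n → p + q + 1 = n → Subsingleton (Abelian.Ext.{w'} T (K.X p) q))
    (c : cocycles T K n) :
    cocycleHom T K n c = 0 ↔ ∃ b : T ⟶ K.X (n - 1), b ≫ K.d (n - 1) n = c.1 := by
  constructor
  · intro hc
    let m := n - 1
    have hle : m ≤ n := by omega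
    obtain ⟨k, hk⟩ := exists_emb hle
    let e := K.stupidTruncXIso (emb m) hk
    have hfn : (sigmaGEι K m).f n = e.hom := sigmaGEι_f_eq K m hk
    obtain ⟨k', hk'⟩ := exists_emb (show m ≤ n + 1 by omega)
    have hfn' : (sigmaGEι K m).f (n + 1) = (K.stupidTruncXIso (emb m) hk').hom := sigmaGEι_f_eq K m hk'
    have hc0 : (c.1 ≫ e.inv) ≫ (sigmaGE K m).d n (n + 1) = 0 := by
      haveI : IsIso ((sigmaGEι K m).f (n + 1)) := hfn' ▸ inferInstance
      rw [← cancel_mono ((sigmaGEι K m).f (n + 1)), zero_comp, Category.assoc, Category.assoc,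
        ← (sigmaGEι K m).comm, hfn, e.inv_hom_id_assoc]
      exact c.2
    let φ := cocycleMap (c.1 ≫ e.inv) hc0
    have hφ : φ ≫ sigmaGEι K m = cocycleMap c.1 c.2 := by
      refine from_single_hom_ext ?_
      rw [comp_f, hfn]
      simp [φ, cocycleMap]
    have h0 : clsHT φ = 0 := by
      have hx : HTmap T (sigmaGEι K m) n (clsHT φ) = 0 := by
        rw [clsHT, ← HTmap_comp, hφ]
        exact hc
      let i := min a m
      obtain ⟨y, hy, hyx⟩ := injective_HTmap_sigmaGEι K n h (m - i).toNat i (by omega) (clsHT φ) hx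
      haveI := isIso_sigmaGEι K i (fun p hp => ha p (by omega))
      apply hyx
      have := congrArg (HTmap T (inv (sigmaGEι K i)) n) hy
      rwa [← HTmap_comp, IsIso.hom_inv_id, HTmap_id, map_zero] at this
    haveI := isStrictlyGE_sigmaGE K m
    obtain ⟨b, hb⟩ := exists_boundary (show m + 1 = n by omega) φ ((clsHT_eq_zero_iff φ).1 h0)
    refine ⟨b ≫ (sigmaGEι K m).f m, ?_⟩
    rw [Category.assoc, (sigmaGEι K m).comm, reassoc_of% hb, hfn]
    simp [φ, cocycleMap]
  · rintro ⟨b, hb⟩
    show clsHT (cocycleMap c.1 c.2) = 0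
    rw [clsHT_eq_zero_iff]
    let q := HomotopyCategory.quotient A (ComplexShape.up ℤ)
    have hq : q.map (cocycleMap c.1 c.2) = 0 := by
      refine (HomotopyCategory.eq_of_homotopy _ _ (Homotopy.ofEq rfl)).trans ?_
      refine HomotopyCategory.eq_of_homotopy _ _
        { hom := fun i j => if hij : i = n ∧ j = n - 1 then
            (singleObjXIsoOfEq (ComplexShape.up ℤ) n T i hij.1).hom ≫ b ≫ (K.XIsoOfEq hij.2).inv else 0
          zero := fun i j hij => dif_neg fun h' => hij (by
            show j + 1 = i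
            omega)
          comm := fun i => ?_ }
      rw [dNext_eq _ (show (ComplexShape.up ℤ).Rel i (i + 1) from rfl),
        prevD_eq _ (show (ComplexShape.up ℤ).Rel (i - 1) i from (by simp : i - 1 + 1 = i))]
      by_cases hi : i = n
      · subst i
        simp [cocycleMap, hb]
        exact (add_zero _).symm
      · exact (isZero_single_obj_X _ n T i hi).eq_of_src _ _
    have h2 : DerivedCategory.Qh.map (q.map (cocycleMap c.1 c.2)) = 0 := by rw [hq, Functor.map_zero]
    have h3 := DerivedCategory.quotientCompQhIso_hom_naturality (cocycleMap c.1 c.2)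
    rw [h2, zero_comp] at h3
    exact (cancel_epi ((DerivedCategory.quotientCompQhIso A).hom.app _)).1 (h3.symm.trans comp_zero.symm)

end Groth.Agent.H26Hyper
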