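import Groth.Agent.H26Hyper.Sections
import Groth.Agent.H27DR.Basic
import Groth.Agent.H17.OmegaLocal
import Groth.Prelude.Def_DeRham2

/-! The global sections of a de Rham complex of an affine scheme are the ring-level de Rham complex. -/

set_option autoImplicit false

universe w u

open CategoryTheory CategoryTheory.Limits AlgebraicGeometry TopologicalSpace Opposite exteriorPower

namespace Groth.Agent.H26Hyper

/-- The functorial maps of exterior powers of Kähler differentials are mutually inverse for isomorphisms. -/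
lemma cxMap_left_inverse {R A R' A' : Type u} [CommRing R] [CommRing A] [Algebra R A] [CommRing R'] [CommRing A']
    [Algebra R' A'] (g : A →+* A') (g' : A' →+* A) (hg : ∀ a, g' (g a) = a)
    (ψ : ∀ p : ℕ, ↥(⋀[A]^p (Ω[A⁄R])) →+ ↥(⋀[A']^p (Ω[A'⁄R'])))
    (hψ : DeRham.IsCxMap (KaehlerDifferential.D R A) (KaehlerDifferential.D R' A') g ψ)
    (ψ' : ∀ p : ℕ, ↥(⋀[A']^p (Ω[A'⁄R'])) →+ ↥(⋀[A]^p (Ω[A⁄R])))
    (hψ' : DeRham.IsCxMap (KaehlerDifferential.D R' A') (KaehlerDifferential.D R A) g' ψ')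
    (p : ℕ) (x : ↥(⋀[A]^p (Ω[A⁄R]))) : ψ' p (ψ p x) = x := by
  refine H27DR.gen_induction (KaehlerDifferential.D R A) (H27DR.kaehler_span R A) p
    (P := fun x => ψ' p (ψ p x) = x) ?_ (by simp) (fun x y hx hy => by simp_all) x
  intro b₀ b
  rw [hψ, hψ']
  simp [hg]

variable {R A : Type u} [CommRing R] [CommRing A] [Algebra R A]

set_option maxHeartbeats 4000000 in
/-- `⋀^p Ω_{A/R}` as global sections of the terms, sending the rule to the differential. -/
theorem exists_sectionsEquiv_rule [QuasiSeparated (Spec.map (CommRingCat.ofHom (algebraMap R A)))]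
    (D : DeRhamSh.OmegaCx (Spec.map (CommRingCat.ofHom (algebraMap R A)))) :
    ∃ e : ∀ p, ↥(⋀[A]^p (Ω[A⁄R])) ≃+ (D.K.X p).obj.obj (op ⊤),
      ∀ p (b₀ : A) (b : Fin p → A),
        (D.K.d p (p + 1)).hom.app (op ⊤) (e p (DeRham.gen (KaehlerDifferential.D R A) p b₀ b)) =
          e (p + 1) (ιMulti A (p + 1) (Fin.cons (KaehlerDifferential.D R A b₀)
            (fun i => KaehlerDifferential.D R A (b i)))) := by
  set f := Spec.map (CommRingCat.ofHom (algebraMap R A)) with hf
  let S := Γ(Spec (CommRingCat.of R), ⊤)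
  let B := Γ(Spec (CommRingCat.of A), ⊤)
  let gA : A →+* B := (Scheme.ΓSpecIso (CommRingCat.of A)).inv.hom
  let gA' : B →+* A := (Scheme.ΓSpecIso (CommRingCat.of A)).hom.hom
  let gR : R →+* S := (Scheme.ΓSpecIso (CommRingCat.of R)).inv.hom
  let gR' : S →+* R := (Scheme.ΓSpecIso (CommRingCat.of R)).hom.hom
  have hA : ∀ a, gA' (gA a) = a := fun a => congr($((Scheme.ΓSpecIso (CommRingCat.of A)).inv_hom_id) a)
  have hA' : ∀ b, gA (gA' b) = b := fun b => congr($((Scheme.ΓSpecIso (CommRingCat.of A)).hom_inv_id) b)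
  have hR' : ∀ b, gR (gR' b) = b := fun b => congr($((Scheme.ΓSpecIso (CommRingCat.of R)).hom_inv_id) b)
  let φ := f.appLE ⊤ ⊤ le_top
  have hnat : ∀ r, φ.hom (gR r) = gA (algebraMap R A r) := fun r => by
    have h := Scheme.ΓSpecIso_inv_naturality (CommRingCat.ofHom (algebraMap R A))
    refine Eq.trans ?_ congr($(h.symm) r)
    show φ.hom _ = _
    simp only [φ, Scheme.Hom.appLE]
    simp
    rfl
  letI algSB : Algebra S B := φ.hom.toAlgebra
  letI algAB : Algebra A B := gA.toAlgebra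
  letI algRS : Algebra R S := gR.toAlgebra
  letI algRB : Algebra R B := (gA.comp (algebraMap R A)).toAlgebra
  haveI : IsScalarTower R A B := IsScalarTower.of_algebraMap_eq fun _ => rfl
  haveI : IsScalarTower R S B := IsScalarTower.of_algebraMap_eq fun r => (hnat r).symm
  obtain ⟨ψ, hψ⟩ := H27DR.exists_isCxMap (R := R) (S := S) (A := A) (B := B)
  letI algBA : Algebra B A := gA'.toAlgebra
  letI algSR : Algebra S R := gR'.toAlgebra
  letI algSA : Algebra S A := (gA'.comp φ.hom).toAlgebra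
  haveI : IsScalarTower S B A := IsScalarTower.of_algebraMap_eq fun _ => rfl
  haveI : IsScalarTower S R A := IsScalarTower.of_algebraMap_eq fun s => by
    show gA' (φ.hom s) = algebraMap R A (gR' s)
    conv_lhs => rw [← hR' s, hnat, hA]
  obtain ⟨ψ', hψ'⟩ := H27DR.exists_isCxMap (R := S) (S := R) (A := B) (B := A)
  let E : ∀ p : ℕ, ↥(⋀[A]^p (Ω[A⁄R])) ≃+ ↥(⋀[B]^p (Ω[B⁄S])) := fun p =>
    { toFun := ψ p
      invFun := ψ' p
      left_inv := cxMap_left_inverse gA gA' hA ψ hψ ψ' hψ' p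
      right_inv := cxMap_left_inverse gA' gA hA' ψ' hψ' ψ hψ p
      map_add' := map_add _ }
  have := H17.OmegaLocal.isIso_toSect f (isAffineOpen_top _) (isAffineOpen_top _) (le_top : (⊤ : (Spec (CommRingCat.of A)).Opens) ≤ f ⁻¹ᵁ ⊤)
  let e := (asIso (OmAff.toSect f ⊤ ⊤ le_top)).toLinearEquiv
  let e' : (Ω[B⁄S]) →ₗ[B] Γ(Omega.sheaf f, ⊤) := e.toLinearMap
  have he' : ∀ b : B, e' (KaehlerDifferential.D S B b) = (OmegaSh.dOmega f).app ⊤ b := fun b =>
    OmAff.toSect_d f ⊤ ⊤ le_top b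
  have hbij : ∀ p, Function.Bijective (exteriorPower.map p e') := fun p => by
    exact ⟨exteriorPower.map_injective (g := e.symm.toLinearMap) (LinearMap.ext fun x => e.symm_apply_apply x),
      exteriorPower.map_surjective e.surjective⟩
  let top : (Spec (CommRingCat.of A)).affineOpens := ⟨⊤, isAffineOpen_top _⟩
  let L : ∀ p, ↥(⋀[B]^p (Ω[B⁄S])) ≃+ Γ(D.term p, ⊤) := fun p =>
    (LinearEquiv.ofBijective (exteriorPower.map p e') (hbij p)).toAddEquiv.trans (D.loc p top).symm.toAddEquiv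
  let P : ∀ p, Γ(D.term p, ⊤) ≃+ (D.K.X p).obj.obj (op ⊤) := fun p =>
    Iso.addCommGroupIsoToAddEquiv (((sheafToPresheaf _ _).mapIso (D.iso p).symm).app (op ⊤))
  refine ⟨fun p => ((E p).trans (L p)).trans (P p), fun p b₀ b => ?_⟩
  have hgen : ∀ (q : ℕ) (c₀ : A) (c : Fin q → A),
      L q (E q (DeRham.gen (KaehlerDifferential.D R A) q c₀ c)) = (D.loc q top).symm
        (gA c₀ • ιMulti Γ(Spec (CommRingCat.of A), top.1) q (fun i => (OmegaSh.dOmega f).app top.1 (gA (c i)))) := by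
    intro q c₀ c
    show (D.loc q top).symm (exteriorPower.map q e' (ψ q _)) = _
    rw [hψ, DeRham.gen, map_smul, exteriorPower.map_apply_ιMulti]
    congr 2
    exact congrArg _ (funext fun i => he' _)
  have hr := D.rule p top (gA b₀) (fun i => gA (b i))
  have h1 : L (p + 1) (E (p + 1) (ιMulti A (p + 1) (Fin.cons (KaehlerDifferential.D R A b₀)
      (fun i => KaehlerDifferential.D R A (b i))))) = (D.loc (p + 1) top).symm
      (ιMulti _ (p + 1) (Fin.cons ((OmegaSh.dOmega f).app top.1 (gA b₀)) fun i => (OmegaSh.dOmega f).app top.1 (gA (b i)))) := by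
    have h2 : ιMulti A (p + 1) (Fin.cons (KaehlerDifferential.D R A b₀) (fun i => KaehlerDifferential.D R A (b i))) =
        DeRham.gen (KaehlerDifferential.D R A) (p + 1) 1 (Fin.cons b₀ b) := by
      rw [DeRham.gen, one_smul]
      congr 1
      ext i; refine Fin.cases ?_ ?_ i <;> simp
    rw [h2, hgen, map_one, one_smul]
    congr 2
    ext i; refine Fin.cases ?_ ?_ i <;> simp
  simp only [AddEquiv.trans_apply]
  rw [h1, hgen]
  exact hr

/-- `⋀^p Ω_{A/R}` as global sections of the terms of a de Rham complex of `Spec A → Spec R`. -/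
theorem exists_sectionsEquiv [QuasiSeparated (Spec.map (CommRingCat.ofHom (algebraMap R A)))]
    (D : DeRhamSh.OmegaCx (Spec.map (CommRingCat.ofHom (algebraMap R A))))
    (d : ∀ p : ℕ, ↥(⋀[A]^p (Ω[A⁄R])) →ₗ[R] ↥(⋀[A]^(p + 1) (Ω[A⁄R])))
    (hd : DeRham.IsRule (KaehlerDifferential.D R A) d) :
    ∃ e : ∀ p, ↥(⋀[A]^p (Ω[A⁄R])) ≃+ (D.K.X p).obj.obj (op ⊤),
      ∀ p x, e (p + 1) (d p x) = (D.K.d p (p + 1)).hom.app (op ⊤) (e p x) := by
  obtain ⟨e, he⟩ := exists_sectionsEquiv_rule D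
  refine ⟨e, fun p x => ?_⟩
  refine H27DR.gen_induction (KaehlerDifferential.D R A) (H27DR.kaehler_span R A) p
    (P := fun x => e (p + 1) (d p x) = (D.K.d p (p + 1)).hom.app (op ⊤) (e p x)) ?_ (by simp)
    (fun a b ha hb => by simp only [map_add, ha, hb]) x
  intro b₀ b
  rw [hd, he]

/-- A de Rham complex of an affine scheme provides the ring-level de Rham differential. -/
theorem exists_isDiff_of_omegaCx [QuasiSeparated (Spec.map (CommRingCat.ofHom (algebraMap R A)))]
    (D : DeRhamSh.OmegaCx (Spec.map (CommRingCat.ofHom (algebraMap R A)))) :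
    ∃ d : ∀ p : ℕ, ↥(⋀[A]^p (Ω[A⁄R])) →ₗ[R] ↥(⋀[A]^(p + 1) (Ω[A⁄R])),
      DeRham.IsDiff (KaehlerDifferential.D R A) d := by
  obtain ⟨e, he⟩ := exists_sectionsEquiv_rule D
  let f : ∀ p, ↥(⋀[A]^p (Ω[A⁄R])) →+ ↥(⋀[A]^(p + 1) (Ω[A⁄R])) := fun p =>
    (e (p + 1)).symm.toAddMonoidHom.comp (((D.K.d p (p + 1)).hom.app (op ⊤)).hom.comp (e p).toAddMonoidHom)
  have hf : ∀ p (b₀ : A) (b : Fin p → A), f p (DeRham.gen (KaehlerDifferential.D R A) p b₀ b) =
      ιMulti A (p + 1) (Fin.cons (KaehlerDifferential.D R A b₀) (fun i => KaehlerDifferential.D R A (b i))) :=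
    fun p b₀ b => (e (p + 1)).symm_apply_eq.2 (he p b₀ b)
  have hlin : ∀ p (r : R) x, f p (r • x) = r • f p x := by
    intro p r x
    refine H27DR.gen_induction (KaehlerDifferential.D R A) (H27DR.kaehler_span R A) p
      (P := fun x => f p (r • x) = r • f p x) ?_ (by simp)
      (fun a b ha hb => by simp only [smul_add, map_add, ha, hb]) x
    intro b₀ b
    rw [show r • DeRham.gen (KaehlerDifferential.D R A) p b₀ b = DeRham.gen (KaehlerDifferential.D R A) p (r • b₀) b from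
      (smul_assoc r b₀ _).symm, hf, hf, Derivation.map_smul]
    rw [← algebraMap_smul A r (KaehlerDifferential.D R A b₀), ← algebraMap_smul A r (ιMulti A (p + 1) _)]
    exact AlternatingMap.map_vecCons_smul (ιMulti A (p + 1)) _ _ _
  let d : ∀ p : ℕ, ↥(⋀[A]^p (Ω[A⁄R])) →ₗ[R] ↥(⋀[A]^(p + 1) (Ω[A⁄R])) := fun p =>
    { toFun := f p, map_add' := map_add _, map_smul' := hlin p }
  have hd : DeRham.IsRule (KaehlerDifferential.D R A) d := hf
  exact ⟨d, hd, H27DR.comp_eq_zero_of_isRule _ (H27DR.kaehler_span R A) d hd⟩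

end Groth.Agent.H26Hyper
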