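import Groth.Prelude.Def_E1Deg
import Groth.Prelude.Def_E1Deg2
import Mathlib.Algebra.Homology.DerivedCategory.ShortExact
import Mathlib.Algebra.Homology.DerivedCategory.TStructure

/-! Dévissage of the hypercohomology groups `E1Deg.HT` along the stupid filtration. -/

set_option autoImplicit false

universe w w' v u

open CategoryTheory CategoryTheory.Limits CategoryTheory.Pretriangulated HomologicalComplex E1Deg

namespace Groth.Agent.H26Hyper

variable {A : Type u} [Category.{v} A] [Abelian A]

lemma isZero_sigmaGE_of_lt (K : CochainComplex A ℤ) {i m : ℤ} (h : m < i) : IsZero ((sigmaGE K i).X m) := by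
  refine K.isZero_stupidTrunc_X (emb i) m fun n hn => ?_
  simp only [ComplexShape.embeddingUpIntGE_f] at hn
  omega

lemma exists_emb {i m : ℤ} (h : i ≤ m) : ∃ n : ℕ, (emb i).f n = m :=
  ⟨(m - i).toNat, by simp only [ComplexShape.embeddingUpIntGE_f]; omega⟩

lemma sigmaGEιSucc_π (K : CochainComplex A ℤ) (i : ℤ) : sigmaGEιSucc K i ≫ sigmaGEπ K i = 0 := by
  refine HomologicalComplex.to_single_hom_ext ?_
  exact (isZero_sigmaGE_of_lt K (by omega : i < i + 1)).eq_of_src _ _

/-- The step `σ_{≥ i+1} K → σ_{≥ i} K → K^i[-i]` of the stupid filtration. -/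
noncomputable abbrev stepSES (K : CochainComplex A ℤ) (i : ℤ) : ShortComplex (CochainComplex A ℤ) :=
  ShortComplex.mk (sigmaGEιSucc K i) (sigmaGEπ K i) (sigmaGEιSucc_π K i)

lemma stepSES_shortExact (K : CochainComplex A ℤ) (i : ℤ) : (stepSES K i).ShortExact := by
  refine HomologicalComplex.shortExact_of_degreewise_shortExact _ fun m => ?_
  rcases lt_trichotomy m i with hm | hm | hm
  · exact ShortComplex.Splitting.shortExact
      (ShortComplex.Splitting.mk (r := 0) (s := 0)
        ((isZero_sigmaGE_of_lt K (by omega : m < i + 1)).eq_of_src _ _)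
        ((HomologicalComplex.isZero_single_obj_X (ComplexShape.up ℤ) i (K.X i) m (by omega)).eq_of_src _ _)
        ((isZero_sigmaGE_of_lt K hm).eq_of_src _ _))
  · subst hm
    let e := K.stupidTruncXIso (emb m) (emb_f_zero m) ≪≫
      (HomologicalComplex.singleObjXSelf (ComplexShape.up ℤ) m (K.X m)).symm
    have he : (sigmaGEπ K m).f m = e.hom := sigmaGEπ_f K m
    refine ShortComplex.Splitting.shortExact
      (ShortComplex.Splitting.mk (r := 0) (s := e.inv)
        ((isZero_sigmaGE_of_lt K (by omega : m < m + 1)).eq_of_src _ _) ?_ ?_)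
    · show e.inv ≫ (sigmaGEπ K m).f m = 𝟙 _
      rw [he]; exact e.inv_hom_id
    · refine (congrArg₂ (· + ·) zero_comp rfl).trans ((zero_add _).trans ?_)
      show (sigmaGEπ K m).f m ≫ e.inv = 𝟙 _
      rw [he]; exact e.hom_inv_id
  · obtain ⟨n, hn⟩ := exists_emb (by omega : i + 1 ≤ m)
    let e := K.stupidTruncXIso (emb (i + 1)) hn ≪≫ (K.stupidTruncXIso (emb i) (emb_f_succ i hn)).symm
    have he : (sigmaGEιSucc K i).f m = e.hom := sigmaGEιSucc_f_eq K i hn
    refine ShortComplex.Splitting.shortExact
      (ShortComplex.Splitting.mk (r := e.inv) (s := 0) ?_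
        ((HomologicalComplex.isZero_single_obj_X (ComplexShape.up ℤ) i (K.X i) m (by omega)).eq_of_src _ _) ?_)
    · show (sigmaGEιSucc K i).f m ≫ e.inv = 𝟙 _
      rw [he]; exact e.hom_inv_id
    · refine (congrArg₂ (· + ·) rfl comp_zero).trans ((add_zero _).trans ?_)
      show e.inv ≫ (sigmaGEιSucc K i).f m = 𝟙 _
      rw [he]; exact e.inv_hom_id

variable [HasDerivedCategory.{w} A] {T : A}

/-- A short exact sequence of complexes gives an exact sequence of `HT` in each degree. -/
lemma HTmap_exact {S : ShortComplex (CochainComplex A ℤ)} (hS : S.ShortExact) (n : ℤ) (x : HT T S.X₂ n)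
    (hx : HTmap T S.g n x = 0) : ∃ y, HTmap T S.f n y = x := by
  have hT := Triangle.shift_distinguished _ (DerivedCategory.triangleOfSES_distinguished hS) n
  obtain ⟨y, hy⟩ := Triangle.coyoneda_exact₂ _ hT x (by
    show x ≫ (n.negOnePow • (shiftFunctor (DerivedCategory A) n).map (DerivedCategory.Q.map S.g) :
      (shiftFunctor (DerivedCategory A) n).obj (DerivedCategory.Q.obj S.X₂) ⟶ _) = 0
    rw [Units.smul_def, Preadditive.comp_zsmul]
    rw [HTmap_apply] at hx
    erw [hx]
    exact smul_zero _)
  let y' : HT T S.X₁ n := y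
  refine ⟨n.negOnePow • y', ?_⟩
  rw [HTmap_apply, Units.smul_def, Preadditive.zsmul_comp]
  refine Eq.trans ?_ hy.symm
  show ((n.negOnePow : ℤˣ) : ℤ) • (y' ≫ _) = y' ≫ (n.negOnePow •
    (shiftFunctor (DerivedCategory A) n).map (DerivedCategory.Q.map S.f))
  rw [Units.smul_def, Preadditive.comp_zsmul]

lemma subsingleton_HT_mid {S : ShortComplex (CochainComplex A ℤ)} (hS : S.ShortExact) (n : ℤ)
    (h₁ : Subsingleton (HT T S.X₁ n)) (h₃ : Subsingleton (HT T S.X₃ n)) : Subsingleton (HT T S.X₂ n) :=
  subsingleton_of_forall_eq 0 fun x => by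
    obtain ⟨y, rfl⟩ := HTmap_exact hS n x (h₃.elim _ _)
    rw [h₁.elim y 0, map_zero]

lemma subsingleton_HT_of_isZero {K : CochainComplex A ℤ} (hK : IsZero K) (n : ℤ) : Subsingleton (HT T K n) :=
  ⟨fun _ _ => ((shiftFunctor (DerivedCategory A) n).map_isZero (DerivedCategory.Q.map_isZero hK)).eq_of_tgt _ _⟩

lemma subsingleton_HT_single_of_lt (X : A) {i n : ℤ} (h : n < i) :
    Subsingleton (HT T ((HomologicalComplex.single A (ComplexShape.up ℤ) i).obj X) n) := by
  refine subsingleton_of_forall_eq 0 fun x => ?_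
  haveI : DerivedCategory.IsGE ((DerivedCategory.singleFunctor A i).obj X) i := inferInstance
  haveI := DerivedCategory.TStructure.t.isGE_shift ((DerivedCategory.singleFunctor A i).obj X) i n (i - n)
  have e := (shiftFunctor (DerivedCategory A) n).mapIso ((DerivedCategory.singleFunctorIsoCompQ A i).app X)
  have := DerivedCategory.TStructure.t.zero_of_isLE_of_isGE (x ≫ e.inv) 0 (i - n) (by omega)
    inferInstance inferInstance
  refine (cancel_mono e.inv).1 (Eq.trans this ?_)
  exact zero_comp.symm

/-- Vanishing of `HT` in degree `n` from vanishing of the groups `Ext^q(T, K^p)`, `p + q = n`. -/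
theorem subsingleton_HT [HasExt.{w'} A] (K : CochainComplex A ℤ) (a N n : ℤ)
    (ha : ∀ m, m < a → IsZero (K.X m)) (hN : ∀ m, N < m → IsZero (K.X m))
    (h : ∀ (p : ℤ) (q : ℕ), a ≤ p → p ≤ N → p + q = n → Subsingleton (Abelian.Ext.{w'} T (K.X p) q)) :
    Subsingleton (HT T K n) := by
  suffices key : ∀ (j : ℕ) (i : ℤ), a ≤ i → N < i + j → Subsingleton (HT T (sigmaGE K i) n) by
    haveI := isIso_sigmaGEι K a ha
    haveI := key (N + 1 - a).toNat a le_rfl (by omega)
    exact Function.Injective.subsingleton (f := HTmap T (inv (sigmaGEι K a)) n) (fun x y hxy => by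
      have := congrArg (HTmap T (sigmaGEι K a) n) hxy
      rwa [← HTmap_comp, ← HTmap_comp, IsIso.inv_hom_id, HTmap_id, HTmap_id] at this)
  intro j
  induction j with
  | zero =>
    intro i _ hi
    refine subsingleton_HT_of_isZero ?_ n
    rw [IsZero.iff_id_eq_zero]
    ext m
    rcases lt_or_ge m i with hm | hm
    · exact (isZero_sigmaGE_of_lt K hm).eq_of_src _ _
    · obtain ⟨k, hk⟩ := exists_emb hm
      exact ((hN m (by omega)).of_iso (K.stupidTruncXIso (emb i) hk)).eq_of_src _ _
  | succ j ih =>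
    intro i hai hi
    refine subsingleton_HT_mid (stepSES_shortExact K i) n (ih (i + 1) (by omega) (by omega)) ?_
    by_cases hni : n < i
    · exact subsingleton_HT_single_of_lt _ hni
    · by_cases hiN : i ≤ N
      · haveI := h i (n - i).toNat hai hiN (by omega)
        exact (HTsingleEquiv T (K.X i) i n (n - i).toNat (by omega)).toEquiv.subsingleton
      · exact subsingleton_HT_of_isZero
          ((HomologicalComplex.single A (ComplexShape.up ℤ) i).map_isZero (hN i (by omega))) n

end Groth.Agent.H26Hyper
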