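import Groth.Agent.H26Hyper.Basic
import Groth.Prelude.Def_DeRham2

/-! Vanishing of algebraic de Rham cohomology from vanishing of the cohomology of the terms. -/

set_option autoImplicit false

universe w u

open CategoryTheory CategoryTheory.Limits AlgebraicGeometry TopologicalSpace

namespace Groth.Agent.H26Hyper

variable {X S : Scheme.{u}} {f : X ⟶ S} {Ω' : X.Modules} {δ : OmegaSh.Der f Ω'}

/-- The degree `p` term of the extended de Rham complex. -/
noncomputable def kzXIso (D : DeRhamSh.Cx f Ω' δ) (p : ℕ) : D.KZ.X (p : ℤ) ≅ Coh.toAb (D.term p) :=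
  D.K.extendXIso ComplexShape.embeddingUpNat (ComplexShape.embeddingUpNat_f p) ≪≫ D.iso p

lemma isZero_KZ_neg (D : DeRhamSh.Cx f Ω' δ) {m : ℤ} (hm : m < 0) : IsZero (D.KZ.X m) := by
  refine D.K.isZero_extend_X _ m fun p hp => ?_
  rw [ComplexShape.embeddingUpNat_f] at hp
  omega

/-- `H^n_dR` vanishes if the terms vanish above `N` and `H^q(X, Ω^p) = 0` for `p + q = n`, `p ≤ N`. -/
theorem subsingleton_HdR (D : DeRhamSh.Cx f Ω' δ)
    [HasDerivedCategory.{w} (Sheaf (Opens.grothendieckTopology X) AddCommGrpCat.{u})]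
    (N : ℕ) (n : ℤ) (hN : ∀ p, N < p → IsZero (Coh.toAb (D.term p)))
    (h : ∀ p q : ℕ, p ≤ N → (p : ℤ) + q = n → Subsingleton (Coh.HH X (D.term p) q)) :
    Subsingleton (DeRhamSh.HdR D n) := by
  refine subsingleton_HT (T := CohCx.freeSheaf (Opens.grothendieckTopology X) ⊤) D.KZ 0 N n
    (fun m hm => isZero_KZ_neg D hm) (fun m hm => ?_) (fun p q hp hpN hpq => ?_)
  · obtain ⟨p, rfl⟩ := Int.eq_ofNat_of_zero_le (by omega : 0 ≤ m)
    exact (hN p (by omega)).of_iso (kzXIso D p)
  · obtain ⟨p, rfl⟩ := Int.eq_ofNat_of_zero_le hp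
    haveI := h p q (by omega) hpq
    exact ((E1Deg.extCongrRight _ (kzXIso D p) q).trans
      (E1Deg.extCongrLeft (E1Deg.freeSheafIsoConstant (Opens.grothendieckTopology X)
        (isTerminalTop : IsTerminal (⊤ : X.Opens))) _ q)).toEquiv.subsingleton

end Groth.Agent.H26Hyper
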