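import Groth.Agent.H26Hyper.Acyclic
import Groth.Prelude.Def_KLinDR

/-! Finiteness of hypercohomology of complexes with linear differentials, by dévissage. -/

set_option autoImplicit false

universe w w' v u u'

open CategoryTheory CategoryTheory.Limits HomologicalComplex E1Deg

namespace Groth.Agent.H26Hyper

variable {A : Type u} [Category.{v} A] [Abelian A] {R : Type u'} [CommRing R]

/-- A ring acting on a complex acts on its stupid truncations. -/
noncomputable def actGE (K : CochainComplex A ℤ) (ρ : R →+* End K) (i : ℤ) : R →+* End (sigmaGE K i) where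
  toFun a := stupidTruncMap (ρ a) (emb i)
  map_one' := by
    show stupidTruncMap (ρ 1 : K ⟶ K) (emb i) = 𝟙 _
    rw [map_one]
    exact stupidTruncMap_id _ _
  map_mul' a b := by
    show stupidTruncMap (ρ (a * b) : K ⟶ K) (emb i) = stupidTruncMap (ρ b) (emb i) ≫ stupidTruncMap (ρ a) (emb i)
    rw [map_mul]
    exact stupidTruncMap_comp _ _ _
  map_zero' := by
    show stupidTruncMap (ρ 0 : K ⟶ K) (emb i) = 0
    rw [map_zero]
    ext m
    rcases lt_or_ge m i with hm | hm
    · exact (isZero_sigmaGE_of_lt K hm).eq_of_src _ _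
    · obtain ⟨n, hn⟩ := exists_emb hm
      rw [← cancel_mono (K.stupidTruncXIso (emb i) hn).hom, stupidTruncMap_stupidTruncXIso_hom]
      simp
  map_add' a b := by
    show stupidTruncMap (ρ (a + b) : K ⟶ K) (emb i) = stupidTruncMap (ρ a) (emb i) + stupidTruncMap (ρ b) (emb i)
    rw [map_add]
    ext m
    rcases lt_or_ge m i with hm | hm
    · exact (isZero_sigmaGE_of_lt K hm).eq_of_src _ _
    · obtain ⟨n, hn⟩ := exists_emb hm
      rw [← cancel_mono (K.stupidTruncXIso (emb i) hn).hom, stupidTruncMap_stupidTruncXIso_hom,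
        HomologicalComplex.add_f_apply, HomologicalComplex.add_f_apply, Preadditive.add_comp,
        stupidTruncMap_stupidTruncXIso_hom, stupidTruncMap_stupidTruncXIso_hom, Preadditive.comp_add]

lemma commutes_ι (K : CochainComplex A ℤ) (ρ : R →+* End K) (i : ℤ) :
    KLinDR.Commutes (actGE K ρ i) ρ (sigmaGEι K i) := fun a => by
  ext m
  rcases lt_or_ge m i with hm | hm
  · exact (isZero_sigmaGE_of_lt K hm).eq_of_src _ _
  · obtain ⟨n, hn⟩ := exists_emb hm
    rw [comp_f, comp_f, sigmaGEι_f_eq K i hn]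
    exact stupidTruncMap_stupidTruncXIso_hom _ _ hn

lemma commutes_ιSucc (K : CochainComplex A ℤ) (ρ : R →+* End K) (i : ℤ) :
    KLinDR.Commutes (actGE K ρ (i + 1)) (actGE K ρ i) (sigmaGEιSucc K i) := fun a => by
  ext m
  rcases lt_or_ge m (i + 1) with hm | hm
  · exact (isZero_sigmaGE_of_lt K hm).eq_of_src _ _
  · obtain ⟨n, hn⟩ := exists_emb hm
    rw [comp_f, comp_f, sigmaGEιSucc_f_eq K i hn, ← cancel_mono (K.stupidTruncXIso (emb i) (emb_f_succ i hn)).hom]
    simp only [Category.assoc, Iso.inv_hom_id, Category.comp_id]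
    show (stupidTruncMap (ρ a) _).f m ≫ _ = _ ≫ _ ≫ (stupidTruncMap (ρ a) _).f m ≫ _
    rw [stupidTruncMap_stupidTruncXIso_hom, stupidTruncMap_stupidTruncXIso_hom, Iso.inv_hom_id_assoc]

/-- The action in one degree, on the complex concentrated there. -/
noncomputable def actSingle (K : CochainComplex A ℤ) (ρ : R →+* End K) (i : ℤ) :
    R →+* End ((single A (ComplexShape.up ℤ) i).obj (K.X i)) where
  toFun a := (single A (ComplexShape.up ℤ) i).map ((ρ a : K ⟶ K).f i)
  map_one' := by
    show (single A (ComplexShape.up ℤ) i).map ((ρ 1 : K ⟶ K).f i) = 𝟙 _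
    rw [map_one]
    exact (single A (ComplexShape.up ℤ) i).map_id _
  map_mul' a b := by
    show (single A (ComplexShape.up ℤ) i).map ((ρ (a * b) : K ⟶ K).f i) =
      (single A (ComplexShape.up ℤ) i).map ((ρ b : K ⟶ K).f i) ≫ (single A (ComplexShape.up ℤ) i).map ((ρ a : K ⟶ K).f i)
    rw [map_mul, ← Functor.map_comp]
    rfl
  map_zero' := by
    show (single A (ComplexShape.up ℤ) i).map ((ρ 0 : K ⟶ K).f i) = 0
    rw [map_zero]
    exact (single A (ComplexShape.up ℤ) i).map_zero _ _
  map_add' a b := by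
    show (single A (ComplexShape.up ℤ) i).map ((ρ (a + b) : K ⟶ K).f i) = _
    rw [map_add]
    exact (single A (ComplexShape.up ℤ) i).map_add

lemma commutes_π (K : CochainComplex A ℤ) (ρ : R →+* End K) (i : ℤ) :
    KLinDR.Commutes (actGE K ρ i) (actSingle K ρ i) (sigmaGEπ K i) := fun a => by
  refine to_single_hom_ext ?_
  rw [comp_f, comp_f, sigmaGEπ_f]
  show (stupidTruncMap (ρ a) _).f i ≫ _ = _ ≫ ((single A (ComplexShape.up ℤ) i).map _).f i
  rw [single_map_f_self, ← Category.assoc, stupidTruncMap_stupidTruncXIso_hom]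
  simp [Category.assoc]

variable [HasDerivedCategory.{w} A] {T : A}

open KLinDR in
/-- Finiteness of the middle term of a short exact sequence. -/
lemma finite_HTρ_mid [IsNoetherianRing R] {S : ShortComplex (CochainComplex A ℤ)} (hS : S.ShortExact)
    {ρ₁ : R →+* End S.X₁} {ρ₂ : R →+* End S.X₂} {ρ₃ : R →+* End S.X₃}
    (hf : Commutes ρ₁ ρ₂ S.f) (hg : Commutes ρ₂ ρ₃ S.g) (n : ℤ)
    [Module.Finite R (HTρ T S.X₁ ρ₁ n)] [Module.Finite R (HTρ T S.X₃ ρ₃ n)] :
    Module.Finite R (HTρ T S.X₂ ρ₂ n) := by
  refine ⟨Submodule.fg_of_fg_map_of_fg_inf_ker (HTρmap T S.g hg n) ?_ ?_⟩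
  · exact IsNoetherian.noetherian _
  · rw [top_inf_eq]
    have : LinearMap.ker (HTρmap T S.g hg n) = LinearMap.range (HTρmap T S.f hf n) := by
      refine le_antisymm (fun x hx => ?_) ?_
      · obtain ⟨y, hy⟩ := HTmap_exact hS n (HTρ.toHT x) hx
        exact ⟨HTρ.toHT.symm y, hy⟩
      · rintro _ ⟨y, rfl⟩
        show HTmap T S.g n (HTmap T S.f n (HTρ.toHT y)) = 0
        rw [← HTmap_comp, S.zero, HTmap_apply, Functor.map_zero, Functor.map_zero]
        exact comp_zero
    rw [this, LinearMap.range_eq_map]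
    exact (Module.Finite.fg_top).map _

variable [HasExt.{w'} A]

/-- `HTsingleEquiv` is natural in the sheaf. -/
lemma HTsingleEquiv_naturality {X Y : A} (φ : X ⟶ Y) (i a : ℤ) (m : ℕ) (h : i + m = a)
    (x : HT T ((single A (ComplexShape.up ℤ) i).obj X) a) :
    HTsingleEquiv T Y i a m h (HTmap T ((single A (ComplexShape.up ℤ) i).map φ) a x) =
      (HTsingleEquiv T X i a m h x).comp (Abelian.Ext.mk₀ φ) (add_zero m) := by
  have hnat : (shiftFunctor (DerivedCategory A) a).map
        (DerivedCategory.Q.map ((single A (ComplexShape.up ℤ) i).map φ)) ≫ (targetIso Y i a m h).hom =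
      (targetIso X i a m h).hom ≫
        (shiftFunctor (DerivedCategory A) (m : ℤ)).map ((DerivedCategory.singleFunctor A 0).map φ) := by
    have h1 := (DerivedCategory.singleFunctorIsoCompQ A i).inv.naturality φ
    have h2 := ((DerivedCategory.singleFunctors A).shiftIso (-i) i 0 (by omega)).inv.naturality φ
    have h3 := (shiftFunctorAdd' (DerivedCategory A) (-i) a (m : ℤ) (by omega)).inv.naturality
      ((DerivedCategory.singleFunctor A 0).map φ)
    let eX := ((DerivedCategory.singleFunctorIsoCompQ A i).app X).symm ≪≫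
      (((DerivedCategory.singleFunctors A).shiftIso (-i) i 0 (by omega)).app X).symm
    let eY := ((DerivedCategory.singleFunctorIsoCompQ A i).app Y).symm ≪≫
      (((DerivedCategory.singleFunctors A).shiftIso (-i) i 0 (by omega)).app Y).symm
    have h12 : DerivedCategory.Q.map ((single A (ComplexShape.up ℤ) i).map φ) ≫ eY.hom =
        eX.hom ≫ (shiftFunctor (DerivedCategory A) (-i)).map ((DerivedCategory.singleFunctor A 0).map φ) :=
      ((Category.assoc _ _ _).symm.trans (congrArg (· ≫ _) h1)).trans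
        ((Category.assoc _ _ _).trans ((congrArg (_ ≫ ·) h2).trans (Category.assoc _ _ _).symm))
    have h12' := ((shiftFunctor (DerivedCategory A) a).map_comp _ _).symm.trans
      ((congrArg (shiftFunctor (DerivedCategory A) a).map h12).trans ((shiftFunctor (DerivedCategory A) a).map_comp _ _))
    exact ((Category.assoc _ _ _).symm.trans (congrArg (· ≫ _) h12')).trans
      ((Category.assoc _ _ _).trans ((congrArg (_ ≫ ·) h3).trans (Category.assoc _ _ _).symm))
  apply Abelian.Ext.homAddEquiv.injective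
  simp only [HTsingleEquiv, AddEquiv.trans_apply, AddEquiv.apply_symm_apply, Abelian.Ext.homAddEquiv_apply,
    Abelian.Ext.comp_hom, Abelian.Ext.mk₀_hom, ShiftedHom.comp_mk₀]
  rw [← Abelian.Ext.homAddEquiv_apply, AddEquiv.apply_symm_apply]
  show (x ≫ _) ≫ _ = (x ≫ _) ≫ _
  rw [Category.assoc, Category.assoc, hnat]

open KLinDR in
/-- Finiteness of hypercohomology in degree `n` from finiteness of the modules `Ext^q(T, K^p)`, `p + q = n`. -/
theorem finite_HTρ [IsNoetherianRing R] (K : CochainComplex A ℤ) (ρ : R →+* End K) (a n : ℤ)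
    (ha : ∀ m, m < a → IsZero (K.X m))
    (h : ∀ (p : ℤ) (q : ℕ) (hpq : p + q = n), a ≤ p →
      Module.Finite R (HTρ T ((single A (ComplexShape.up ℤ) p).obj (K.X p)) (actSingle K ρ p) n)) :
    Module.Finite R (HTρ T K ρ n) := by
  suffices key : ∀ (j : ℕ) (i : ℤ), a ≤ i → n < i + j → Module.Finite R (HTρ T (sigmaGE K i) (actGE K ρ i) n) by
    haveI := isIso_sigmaGEι K a ha
    haveI := key (n + 1 - a).toNat a le_rfl (by omega)
    refine Module.Finite.of_surjective (HTρmap T (sigmaGEι K a) (commutes_ι K ρ a) n) fun x => ?_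
    refine ⟨HTρ.toHT.symm (HTmap T (inv (sigmaGEι K a)) n (HTρ.toHT x)), ?_⟩
    show HTmap T (sigmaGEι K a) n (HTmap T (inv (sigmaGEι K a)) n (HTρ.toHT x)) = HTρ.toHT x
    rw [← HTmap_comp, IsIso.inv_hom_id, HTmap_id]
  intro j
  induction j with
  | zero =>
    intro i _ hi
    haveI : Subsingleton (HTρ T (sigmaGE K i) (actGE K ρ i) n) := by
      haveI := isStrictlyGE_sigmaGE K i
      refine subsingleton_of_forall_eq 0 fun x => ?_
      have := DerivedCategory.TStructure.t.isGE_shift (DerivedCategory.Q.obj (sigmaGE K i)) i n (i - n)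
      exact DerivedCategory.TStructure.t.zero_of_isLE_of_isGE (HTρ.toHT x) 0 (i - n) (by omega)
        inferInstance inferInstance
    infer_instance
  | succ j ih =>
    intro i hai hi
    haveI := ih (i + 1) (by omega) (by omega)
    haveI : Module.Finite R (HTρ T ((single A (ComplexShape.up ℤ) i).obj (K.X i)) (actSingle K ρ i) n) := by
      by_cases hni : n < i
      · haveI : Subsingleton (HTρ T ((single A (ComplexShape.up ℤ) i).obj (K.X i)) (actSingle K ρ i) n) :=
          subsingleton_HT_single_of_lt (T := T) (K.X i) hni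
        infer_instance
      · exact h i (n - i).toNat (by omega) hai
    exact finite_HTρ_mid (stepSES_shortExact K i) (commutes_ιSucc K ρ i) (commutes_π K ρ i) n

end Groth.Agent.H26Hyper
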