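import Groth.Agent.H27DR.PolyHom

/-! The algebraic Poincaré lemma for polynomial rings in finitely many variables over a `ℚ`-algebra. -/

set_option autoImplicit false

noncomputable section

open exteriorPower

universe u

namespace Groth.Agent.H26Hyper

variable (R : Type u) [CommRing R]

/-- The de Rham complex of `A/R` is concentrated in degree zero, with `H^0` the constants. -/
def Trivial (A : Type u) [CommRing A] [Algebra R A] : Prop :=
  ∀ d : ∀ p : ℕ, ↥(⋀[A]^p (Ω[A⁄R])) →ₗ[R] ↥(⋀[A]^(p + 1) (Ω[A⁄R])),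
    DeRham.IsDiff (KaehlerDifferential.D R A) d →
      (∀ q, DeRham.cocycles d (q + 1) ≤ DeRham.coboundaries d (q + 1)) ∧
        ∀ x ∈ DeRham.cocycles d 0, ∃ c : R, x = DeRham.gen (KaehlerDifferential.D R A) 0 (algebraMap R A c) Fin.elim0

variable {R} {A B : Type u} [CommRing A] [Algebra R A] [CommRing B] [Algebra R B]

/-- Transport along a quasi-isomorphism of de Rham complexes. -/
theorem Trivial.transfer (d : ∀ p : ℕ, ↥(⋀[A]^p (Ω[A⁄R])) →ₗ[R] ↥(⋀[A]^(p + 1) (Ω[A⁄R])))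
    (hd : DeRham.IsDiff (KaehlerDifferential.D R A) d) (hA : Trivial R A)
    (d' : ∀ p : ℕ, ↥(⋀[B]^p (Ω[B⁄R])) →ₗ[R] ↥(⋀[B]^(p + 1) (Ω[B⁄R])))
    (g : A →ₐ[R] B) (ψ : ∀ p : ℕ, ↥(⋀[A]^p (Ω[A⁄R])) →+ ↥(⋀[B]^p (Ω[B⁄R])))
    (hψ : DeRham.IsCxMap (KaehlerDifferential.D R A) (KaehlerDifferential.D R B) g.toRingHom ψ)
    (hcomm : ∀ p x, ψ (p + 1) (d p x) = d' p (ψ p x))
    (hs : ∀ i, ∀ y ∈ DeRham.cocycles d' i, ∃ x ∈ DeRham.cocycles d i, y - ψ i x ∈ DeRham.coboundaries d' i) :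
    (∀ q, DeRham.cocycles d' (q + 1) ≤ DeRham.coboundaries d' (q + 1)) ∧
      ∀ y ∈ DeRham.cocycles d' 0, ∃ c : R, y = DeRham.gen (KaehlerDifferential.D R B) 0 (algebraMap R B c) Fin.elim0 := by
  refine ⟨fun q y hy => ?_, fun y hy => ?_⟩
  · obtain ⟨x, hx, hxy⟩ := hs (q + 1) y hy
    obtain ⟨z, rfl⟩ := (hA d hd).1 q hx
    have h1 : ψ (q + 1) (d q z) ∈ DeRham.coboundaries d' (q + 1) := ⟨ψ q z, (hcomm q z).symm⟩
    simpa using Submodule.add_mem _ hxy h1
  · obtain ⟨x, hx, hxy⟩ := hs 0 y hy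
    obtain ⟨c, rfl⟩ := (hA d hd).2 x hx
    refine ⟨c, ?_⟩
    have hxy' : y - ψ 0 _ = 0 := hxy
    rw [sub_eq_zero] at hxy'
    rw [hxy', hψ]
    simp only [DeRham.gen, AlgHom.toRingHom_eq_coe, RingHom.coe_coe, AlgHom.commutes]
    congr 2
    ext i; exact i.elim0

/-- The de Rham differential of a retract. -/
theorem exists_isDiff_of_retract (g : A →ₐ[R] B) (g' : B →ₐ[R] A) (h : ∀ a, g' (g a) = a)
    (d' : ∀ p : ℕ, ↥(⋀[B]^p (Ω[B⁄R])) →ₗ[R] ↥(⋀[B]^(p + 1) (Ω[B⁄R])))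
    (hd' : DeRham.IsDiff (KaehlerDifferential.D R B) d') :
    ∃ (d : ∀ p : ℕ, ↥(⋀[A]^p (Ω[A⁄R])) →ₗ[R] ↥(⋀[A]^(p + 1) (Ω[A⁄R])))
      (ψ : ∀ p : ℕ, ↥(⋀[A]^p (Ω[A⁄R])) →+ ↥(⋀[B]^p (Ω[B⁄R])))
      (ε : ∀ p : ℕ, ↥(⋀[B]^p (Ω[B⁄R])) →+ ↥(⋀[A]^p (Ω[A⁄R]))),
      DeRham.IsDiff (KaehlerDifferential.D R A) d ∧
      DeRham.IsCxMap (KaehlerDifferential.D R A) (KaehlerDifferential.D R B) g.toRingHom ψ ∧
      DeRham.IsCxMap (KaehlerDifferential.D R B) (KaehlerDifferential.D R A) g'.toRingHom ε ∧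
      (∀ p x, ψ (p + 1) (d p x) = d' p (ψ p x)) ∧ (∀ p y, ε (p + 1) (d' p y) = d p (ε p y)) := by
  obtain ⟨ψ, hψ⟩ : ∃ ψ : ∀ p : ℕ, ↥(⋀[A]^p (Ω[A⁄R])) →+ ↥(⋀[B]^p (Ω[B⁄R])),
      DeRham.IsCxMap (KaehlerDifferential.D R A) (KaehlerDifferential.D R B) g.toRingHom ψ := by
    letI : Algebra A B := g.toRingHom.toAlgebra
    haveI : IsScalarTower R A B := IsScalarTower.of_algebraMap_eq fun r => (g.commutes r).symm
    exact H27DR.exists_isCxMap (R := R) (S := R) (A := A) (B := B)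
  obtain ⟨ε, hε⟩ : ∃ ε : ∀ p : ℕ, ↥(⋀[B]^p (Ω[B⁄R])) →+ ↥(⋀[A]^p (Ω[A⁄R])),
      DeRham.IsCxMap (KaehlerDifferential.D R B) (KaehlerDifferential.D R A) g'.toRingHom ε := by
    letI : Algebra B A := g'.toRingHom.toAlgebra
    haveI : IsScalarTower R B A := IsScalarTower.of_algebraMap_eq fun r => (g'.commutes r).symm
    exact H27DR.exists_isCxMap (R := R) (S := R) (A := B) (B := A)
  let f : ∀ p, ↥(⋀[A]^p (Ω[A⁄R])) →+ ↥(⋀[A]^(p + 1) (Ω[A⁄R])) := fun p =>
    (ε (p + 1)).comp ((d' p).toAddMonoidHom.comp (ψ p))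
  have hf : ∀ p (b₀ : A) (b : Fin p → A), f p (DeRham.gen (KaehlerDifferential.D R A) p b₀ b) =
      ιMulti A (p + 1) (Fin.cons (KaehlerDifferential.D R A b₀) (fun i => KaehlerDifferential.D R A (b i))) := by
    intro p b₀ b
    show ε (p + 1) (d' p (ψ p _)) = _
    rw [hψ, hd'.1]
    have h2 : ιMulti B (p + 1) (Fin.cons (KaehlerDifferential.D R B (g.toRingHom b₀))
        (fun i => KaehlerDifferential.D R B (g.toRingHom (b i)))) =
        DeRham.gen (KaehlerDifferential.D R B) (p + 1) 1 (Fin.cons (g.toRingHom b₀) fun i => g.toRingHom (b i)) := by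
      rw [DeRham.gen, one_smul]
      congr 1
      ext i; refine Fin.cases ?_ ?_ i <;> simp
    rw [h2, hε, DeRham.gen, map_one, one_smul]
    congr 1
    ext i; refine Fin.cases ?_ ?_ i <;> simp [h]
  have hlin : ∀ p (r : R) x, f p (r • x) = r • f p x := by
    intro p r x
    refine H27DR.gen_induction (KaehlerDifferential.D R A) (H27DR.kaehler_span R A) p
      (P := fun x => f p (r • x) = r • f p x) ?_ (by simp)
      (fun a b ha hb => by simp only [smul_add, map_add, ha, hb]) x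
    intro b₀ b
    rw [show r • DeRham.gen (KaehlerDifferential.D R A) p b₀ b = DeRham.gen (KaehlerDifferential.D R A) p (r • b₀) b from
      (smul_assoc r b₀ _).symm, hf, hf, Derivation.map_smul]
    rw [← algebraMap_smul A r (KaehlerDifferential.D R A b₀), ← algebraMap_smul A r (ιMulti A (p + 1) _)]
    exact AlternatingMap.map_vecCons_smul (ιMulti A (p + 1)) _ _ _
  let d : ∀ p : ℕ, ↥(⋀[A]^p (Ω[A⁄R])) →ₗ[R] ↥(⋀[A]^(p + 1) (Ω[A⁄R])) := fun p =>
    { toFun := f p, map_add' := map_add _, map_smul' := hlin p }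
  have hr : DeRham.IsRule (KaehlerDifferential.D R A) d := hf
  refine ⟨d, ψ, ε, ⟨hr, H27DR.comp_eq_zero_of_isRule _ (H27DR.kaehler_span R A) d hr⟩, hψ, hε, ?_, ?_⟩
  · exact H27DR.cxMap_comm _ (H27DR.kaehler_span R A) _ _ d hr d' hd'.1 ψ hψ
  · exact H27DR.cxMap_comm _ (H27DR.kaehler_span R B) _ _ d' hd'.1 d hr ε hε

/-- Invariance under isomorphism. -/
theorem Trivial.of_algEquiv (e : A ≃ₐ[R] B) (hA : Trivial R A) : Trivial R B := fun d' hd' => by
  obtain ⟨d, ψ, ε, hd, hψ, hε, hc, hc'⟩ :=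
    exists_isDiff_of_retract e.toAlgHom e.symm.toAlgHom (fun a => e.symm_apply_apply a) d' hd'
  refine Trivial.transfer d hd hA d' e.toAlgHom ψ hψ hc fun i y hy => ⟨ε i y, ?_, ?_⟩
  · rw [DeRham.cocycles, LinearMap.mem_ker] at hy ⊢
    rw [← hc', hy, map_zero]
  · have : ψ i (ε i y) = y := by
      refine H27DR.gen_induction (KaehlerDifferential.D R B) (H27DR.kaehler_span R B) i
        (P := fun y => ψ i (ε i y) = y) ?_ (by simp) (fun a b ha hb => by simp only [map_add, ha, hb]) y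
      intro b₀ b
      rw [hε, hψ]
      simp
    rw [this, sub_self]
    exact Submodule.zero_mem _

/-- Homotopy invariance. -/
theorem Trivial.polynomial [Algebra ℚ R] (hA : Trivial R A) : Trivial R (Polynomial A) := fun d' hd' => by
  obtain ⟨d, ψ, ε, hd, hψ, hε, hc, hc'⟩ :=
    exists_isDiff_of_retract (A := A) (B := Polynomial A) (IsScalarTower.toAlgHom R A (Polynomial A))
      ((Polynomial.aeval (0 : A)).restrictScalars R) (fun a => by simp) d' hd'
  exact Trivial.transfer d hd hA d' _ ψ hψ hc fun i => (H27DR.PolyHom.qiso d' d ψ hd hd' hψ hc i).1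

/-- A base ring has trivial de Rham complex. -/
theorem Trivial.of_surjective (h : Function.Surjective (algebraMap R A)) : Trivial R A := fun d hd => by
  haveI : Subsingleton (Ω[A⁄R]) := KaehlerDifferential.subsingleton_of_surjective R A h
  refine ⟨fun q x _ => ?_, fun x _ => ?_⟩
  · suffices x = 0 by rw [this]; exact Submodule.zero_mem _
    refine H27DR.gen_induction (KaehlerDifferential.D R A) (H27DR.kaehler_span R A) (q + 1)
      (P := fun x => x = 0) ?_ rfl (fun a b ha hb => by rw [ha, hb, add_zero]) x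
    intro b₀ b
    rw [DeRham.gen, AlternatingMap.map_coord_zero _ (0 : Fin (q + 1)) (Subsingleton.elim _ _), smul_zero]
  · refine H27DR.gen_induction (KaehlerDifferential.D R A) (H27DR.kaehler_span R A) 0
      (P := fun x => ∃ c : R, x = DeRham.gen (KaehlerDifferential.D R A) 0 (algebraMap R A c) Fin.elim0)
      ?_ ⟨0, by simp [DeRham.gen]⟩ ?_ x
    · intro b₀ b
      obtain ⟨c, rfl⟩ := h b₀
      exact ⟨c, by rw [show b = Fin.elim0 from funext fun i => i.elim0]⟩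
    · rintro a b ⟨c, rfl⟩ ⟨c', rfl⟩
      exact ⟨c + c', by simp only [DeRham.gen, map_add, add_smul]⟩

/-- The algebraic Poincaré lemma. -/
theorem trivial_mvPolynomial [Algebra ℚ R] : ∀ n : ℕ, Trivial R (MvPolynomial (Fin n) R)
  | 0 => Trivial.of_surjective fun x => ⟨MvPolynomial.isEmptyAlgEquiv R (Fin 0) x, by
      conv_rhs => rw [← (MvPolynomial.isEmptyAlgEquiv R (Fin 0)).symm_apply_apply x]
      exact ((MvPolynomial.isEmptyAlgEquiv R (Fin 0)).symm.commutes _).symm⟩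
  | n + 1 => Trivial.of_algEquiv (MvPolynomial.finSuccEquiv R n).symm (Trivial.polynomial (trivial_mvPolynomial n))

end Groth.Agent.H26Hyper
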