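import Groth.Agent.H26Hyper.Acyclic
import Groth.Agent.H10Coh.SheafH
import Groth.Prelude.Def_DeRham2

/-! de Rham cohomology from the complex of global sections when the terms are acyclic. -/

set_option autoImplicit false

universe w u v

open CategoryTheory CategoryTheory.Limits AlgebraicGeometry TopologicalSpace Opposite

namespace Groth.Agent.H26Hyper

variable {X : Scheme.{u}} (K : CochainComplex (Sheaf (Opens.grothendieckTopology X) AddCommGrpCat.{u}) ℕ)

/-- The `ℤ`-extension of a complex of sheaves indexed by `ℕ`. -/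
noncomputable abbrev ext0 : CochainComplex (Sheaf (Opens.grothendieckTopology X) AddCommGrpCat.{u}) ℤ :=
  K.extend ComplexShape.embeddingUpNat

/-- Maps from the free sheaf on the whole space to the `p`-th term are its global sections. -/
noncomputable def secEquiv (p : ℕ) :
    (CohCx.freeSheaf (Opens.grothendieckTopology X) ⊤ ⟶ (ext0 K).X (p : ℤ)) ≃+ (K.X p).obj.obj (op ⊤) :=
  AddEquiv.trans
    { toFun := fun φ => φ ≫ (K.extendXIso ComplexShape.embeddingUpNat (ComplexShape.embeddingUpNat_f p)).hom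
      invFun := fun φ => φ ≫ (K.extendXIso ComplexShape.embeddingUpNat (ComplexShape.embeddingUpNat_f p)).inv
      left_inv := fun φ => by simp
      right_inv := fun φ => by simp
      map_add' := fun φ ψ => Preadditive.add_comp _ _ _ _ _ _ }
    (H10Coh.sect (⊤ : X.Opens) (K.X p))

lemma ext0_d_comp (p q : ℕ) :
    (ext0 K).d (p : ℤ) (q : ℤ) ≫ (K.extendXIso ComplexShape.embeddingUpNat (ComplexShape.embeddingUpNat_f q)).hom =
      (K.extendXIso ComplexShape.embeddingUpNat (ComplexShape.embeddingUpNat_f p)).hom ≫ K.d p q := by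
  rw [K.extend_d_eq ComplexShape.embeddingUpNat (ComplexShape.embeddingUpNat_f p)
    (ComplexShape.embeddingUpNat_f q)]
  simp

lemma secEquiv_d (p q : ℕ) (φ : CohCx.freeSheaf (Opens.grothendieckTopology X) ⊤ ⟶ (ext0 K).X (p : ℤ)) :
    secEquiv K q (φ ≫ (ext0 K).d (p : ℤ) (q : ℤ)) = (K.d p q).hom.app (op ⊤) (secEquiv K p φ) := by
  simp only [secEquiv, AddEquiv.trans_apply]
  show H10Coh.sect (⊤ : X.Opens) (K.X q) ((φ ≫ (ext0 K).d (p : ℤ) (q : ℤ)) ≫ _) = _
  rw [Category.assoc, ext0_d_comp, ← Category.assoc, H10Coh.sect_comp]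
  rfl

lemma secEquiv_d' (p : ℕ) (φ : CohCx.freeSheaf (Opens.grothendieckTopology X) ⊤ ⟶ (ext0 K).X (p : ℤ)) :
    φ ≫ (ext0 K).d (p : ℤ) ((p : ℤ) + 1) = 0 ↔ (K.d p (p + 1)).hom.app (op ⊤) (secEquiv K p φ) = 0 := by
  rw [← secEquiv_d, AddEquiv.map_eq_zero_iff]
  exact Iff.rfl

variable [HasDerivedCategory.{w} (Sheaf (Opens.grothendieckTopology X) AddCommGrpCat.{u})]

set_option maxHeartbeats 1600000 in
/-- Hypercohomology of a complex with acyclic terms, from a model `C` of its complex of global sections. -/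
theorem nonempty_HT_addEquiv
    (hK : ∀ p q : ℕ, Subsingleton (Abelian.Ext.{u} (CohCx.freeSheaf (Opens.grothendieckTopology X) ⊤) (K.X p) (q + 1)))
    (C : ℕ → Type v) [∀ p, AddCommGroup (C p)] (dC : ∀ p, C p →+ C (p + 1))
    (e : ∀ p, C p ≃+ (K.X p).obj.obj (op ⊤))
    (he : ∀ p x, e (p + 1) (dC p x) = (K.d p (p + 1)).hom.app (op ⊤) (e p x))
    (n : ℕ) (B : AddSubgroup (C n))
    (hB : ∀ x, x ∈ B ↔ (n = 0 ∧ x = 0) ∨ ∃ (m : ℕ) (h : m + 1 = n) (b : C m), h ▸ dC m b = x) :
    Nonempty (E1Deg.HT (CohCx.freeSheaf (Opens.grothendieckTopology X) ⊤) (ext0 K) (n : ℤ) ≃+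
      (dC n).ker ⧸ B.addSubgroupOf (dC n).ker) := by
  have hneg : ∀ m : ℤ, m < 0 → IsZero ((ext0 K).X m) := fun m hm => by
    refine K.isZero_extend_X _ m fun p hp => ?_
    rw [ComplexShape.embeddingUpNat_f] at hp
    omega
  have hac : ∀ (p : ℤ) (q : ℕ), Subsingleton
      (Abelian.Ext.{u} (CohCx.freeSheaf (Opens.grothendieckTopology X) ⊤) ((ext0 K).X p) (q + 1)) := by
    intro p q
    by_cases hp : 0 ≤ p
    · obtain ⟨p, rfl⟩ := Int.eq_ofNat_of_zero_le hp
      haveI := hK p q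
      exact (E1Deg.extCongrRight _
        (K.extendXIso ComplexShape.embeddingUpNat (ComplexShape.embeddingUpNat_f p)) (q + 1)).toEquiv.subsingleton
    · refine subsingleton_of_forall_eq 0 fun x => ?_
      rw [← Abelian.Ext.comp_mk₀_id x, (hneg p (by omega)).eq_of_src (𝟙 _) 0, Abelian.Ext.mk₀_zero,
        Abelian.Ext.comp_zero]
  let T := CohCx.freeSheaf (Opens.grothendieckTopology X) ⊤
  let j : (dC n).ker →+ cocycles T (ext0 K) (n : ℤ) :=
    AddMonoidHom.mk' (fun x => ⟨(secEquiv K n).symm (e n x.1), by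
      show (secEquiv K n).symm (e n x.1) ≫ (ext0 K).d _ _ = 0
      rw [secEquiv_d', AddEquiv.apply_symm_apply, ← he, show dC n x.1 = 0 from x.2, map_zero]⟩)
      fun x y => Subtype.ext (by simp)
  have hj : Function.Surjective j := fun c =>
    ⟨⟨(e n).symm (secEquiv K n c.1), by
      rw [AddMonoidHom.mem_ker, ← (e (n + 1)).map_eq_zero_iff, he, AddEquiv.apply_symm_apply, ← secEquiv_d']
      exact c.2⟩, Subtype.ext (by simp [j])⟩
  let f := (cocycleHom T (ext0 K) (n : ℤ)).comp j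
  have hs : Function.Surjective (cocycleHom T (ext0 K) (n : ℤ)) :=
    surjective_cocycleHom.{w, u} (T := T) (ext0 K) 0 (n : ℤ) hneg (fun p q hp hpq => by
      obtain ⟨q, rfl⟩ : ∃ q', q = q' + 1 := ⟨q - 1, by omega⟩
      exact hac p q)
  have hf : Function.Surjective f := hs.comp hj
  have hker : f.ker = B.addSubgroupOf (dC n).ker := by
    ext x
    rw [AddMonoidHom.mem_ker, AddSubgroup.mem_addSubgroupOf, hB]
    show cocycleHom T (ext0 K) (n : ℤ) (j x) = 0 ↔ _
    rw [cocycleHom_eq_zero_iff.{w, u} (T := T) (ext0 K) 0 (n : ℤ) hneg (fun p q hp hpq => by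
      obtain ⟨q, rfl⟩ : ∃ q', q = q' + 1 := ⟨q - 1, by omega⟩
      exact hac p q)]
    cases n with
    | zero =>
      constructor
      · rintro ⟨b, hb⟩
        refine Or.inl ⟨rfl, ?_⟩
        rw [(hneg _ (by simp)).eq_of_tgt b 0, zero_comp] at hb
        have hb' : (secEquiv K 0).symm (e 0 x.1) = 0 := hb.symm
        rwa [AddEquiv.map_eq_zero_iff, AddEquiv.map_eq_zero_iff] at hb'
      · rintro (⟨-, hx⟩ | ⟨m, h, -⟩)
        · refine ⟨0, ?_⟩
          simp [j, hx]
        · omega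
    | succ m =>
      have key : ∀ b : T ⟶ (ext0 K).X (m : ℤ),
          (b ≫ (ext0 K).d (m : ℤ) ((m + 1 : ℕ) : ℤ) = (j x).1) ↔ dC m ((e m).symm (secEquiv K m b)) = x.1 := by
        intro b
        rw [← (secEquiv K (m + 1)).injective.eq_iff, secEquiv_d, ← (e (m + 1)).injective.eq_iff, he,
          AddEquiv.apply_symm_apply]
        simp [j]
      have hm : ((m + 1 : ℕ) : ℤ) - 1 = (m : ℤ) := by omega
      rw [hm]
      constructor
      · rintro ⟨b, hb⟩
        exact Or.inr ⟨m, rfl, _, (key b).1 hb⟩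
      · rintro (⟨h, -⟩ | ⟨m', h, b, hb⟩)
        · omega
        · obtain rfl : m' = m := by omega
          refine ⟨(secEquiv K m').symm (e m' b), (key _).2 ?_⟩
          rw [AddEquiv.apply_symm_apply, AddEquiv.symm_apply_apply]
          exact hb
  exact ⟨((QuotientAddGroup.quotientAddEquivOfEq hker).symm.trans
    (QuotientAddGroup.quotientKerEquivOfSurjective f hf)).symm⟩

end Groth.Agent.H26Hyper
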