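import Groth.Agent.H17.OmegaLocal
import Groth.Agent.H9Synt.Smooth
import Groth.Prelude.Def_DeRham2
import Mathlib.AlgebraicGeometry.Morphisms.Smooth

/-! The terms of a de Rham complex of a smooth `k`-scheme vanish above its dimension. -/

set_option autoImplicit false

universe w u

open CategoryTheory CategoryTheory.Limits AlgebraicGeometry TopologicalSpace Opposite

namespace Groth.Agent.H26Hyper

lemma subsingleton_exteriorPower_kaehler (K B : Type u) [Field K] [CommRing B] [Algebra K B]
    [Algebra.IsStandardSmooth K B] {n p : ℕ} (hdim : ringKrullDim B ≤ n) (hp : n < p) :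
    Subsingleton (⋀[B]^p (Ω[B⁄K])) := by
  rcases subsingleton_or_nontrivial B with h | h
  · exact Module.subsingleton B _
  obtain ⟨ι, σ, _, _, ⟨P⟩⟩ := Algebra.IsStandardSmooth.out (R := K) (S := B)
  have hsm : Algebra.IsStandardSmoothOfRelativeDimension P.dimension K B :=
    P.isStandardSmoothOfRelativeDimension rfl
  obtain ⟨g, hg⟩ := Algebra.IsStandardSmoothOfRelativeDimension.exists_etale_mvPolynomial P.dimension K B
  have hd : P.dimension ≤ n := by
    letI := g.toRingHom.toAlgebra
    haveI : Algebra.Etale (MvPolynomial (Fin P.dimension) K) B := hg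
    rw [H9Synt.ringKrullDim_of_etale_mvPolynomial (k := K) (S := B) (d := P.dimension)] at hdim
    exact_mod_cast hdim
  haveI : Module.Free B (Ω[B⁄K]) := Algebra.IsStandardSmooth.free_kaehlerDifferential
  have hr := Module.finrank_eq_of_rank_eq
    (Algebra.IsStandardSmoothOfRelativeDimension.rank_kaehlerDifferential (R := K) (S := B) P.dimension)
  have h0 : Module.finrank B ↥(⋀[B]^p (Ω[B⁄K])) = 0 := by
    rw [exteriorPower.finrank_eq, hr, Nat.choose_eq_zero_of_lt (by omega)]
  rw [Module.finrank_eq_card_chooseBasisIndex] at h0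
  haveI := Fintype.card_eq_zero_iff.1 h0
  exact (Module.Free.chooseBasis B _).repr.toEquiv.subsingleton

variable {k : Type u} [Field k] {X : Scheme.{u}} (f : X ⟶ Spec (CommRingCat.of k))

lemma subsingleton_exteriorPower_omega [QuasiSeparated f] {W : X.Opens} (hW : IsAffineOpen W)
    (hs : (f.appLE ⊤ W le_top).hom.IsStandardSmooth) {n p : ℕ} (hn : topologicalKrullDim X ≤ n) (hp : n < p) :
    Subsingleton (⋀[Γ(X, W)]^p Γ(Omega.sheaf f, W)) := by
  have hfld : IsField Γ(Spec (CommRingCat.of k), ⊤) :=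
    MulEquiv.isField (Field.toIsField k)
      (Scheme.ΓSpecIso (CommRingCat.of k)).commRingCatIsoToRingEquiv.toMulEquiv
  letI := hfld.toField
  algebraize [(f.appLE ⊤ W le_top).hom]
  haveI : Algebra.IsStandardSmooth Γ(Spec (CommRingCat.of k), ⊤) Γ(X, W) := hs
  have hdim : ringKrullDim Γ(X, W) ≤ n := by
    rw [← PrimeSpectrum.topologicalKrullDim_eq_ringKrullDim]
    exact (hW.fromSpec.isOpenEmbedding.isInducing.topologicalKrullDim_le).trans hn
  have := H17.OmegaLocal.isIso_toSect f hW (isAffineOpen_top _) (le_top : W ≤ f ⁻¹ᵁ ⊤)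
  let e := (asIso (OmAff.toSect f ⊤ W le_top)).toLinearEquiv
  have h0 := subsingleton_exteriorPower_kaehler Γ(Spec (CommRingCat.of k), ⊤) Γ(X, W) hdim hp
  have hsurj : Function.Surjective (exteriorPower.map p e.toLinearMap) :=
    exteriorPower.map_surjective e.surjective
  exact @Function.Surjective.subsingleton _ _ _ h0 hsurj

/-- Above the dimension the terms of the de Rham complex of a smooth scheme vanish. -/
theorem isZero_term [QuasiSeparated f] [Smooth f] {n p : ℕ} (hn : topologicalKrullDim X ≤ n) (hp : n < p)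
    (D : DeRhamSh.OmegaCx f) : IsZero (Coh.toAb (D.term p)) := by
  have key : ∀ (W : X.Opens) (x : X), x ∈ W → ∃ W' : X.Opens, W' ≤ W ∧ x ∈ W' ∧
      Subsingleton Γ(D.term p, W') := by
    intro W x hx
    obtain ⟨U, hU, V, hV, hxV, e, hVs⟩ := Smooth.exists_isStandardSmooth f x
    obtain rfl : U = ⊤ := eq_top_iff.2 fun y _ => by
      haveI : Subsingleton ↥(Spec (CommRingCat.of k)) := inferInstanceAs (Subsingleton (PrimeSpectrum k))
      rw [Subsingleton.elim y (f x)]
      exact e hxV
    obtain ⟨r, hrW, hxr⟩ := hV.exists_basicOpen_le ⟨x, hx⟩ hxV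
    refine ⟨X.basicOpen r, hrW, hxr, ?_⟩
    have hs : (f.appLE ⊤ (X.basicOpen r) le_top).hom.IsStandardSmooth := by
      have hl : (X.presheaf.map (homOfLE (X.basicOpen_le r)).op).hom.IsStandardSmooth := by
        haveI := hV.isLocalization_basicOpen r
        exact RingHom.isStandardSmooth_algebraMap.2 (Algebra.IsStandardSmooth.localization_away r)
      rw [← Scheme.Hom.appLE_map f e (homOfLE (X.basicOpen_le r)).op, CommRingCat.hom_comp]
      exact hl.comp hVs
    haveI := subsingleton_exteriorPower_omega f (hV.basicOpen r) hs hn hp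
    exact (D.loc p ⟨X.basicOpen r, hV.basicOpen r⟩).toEquiv.subsingleton
  rw [IsZero.iff_id_eq_zero]
  refine CategoryTheory.Sheaf.hom_ext (NatTrans.ext (funext fun W => ?_))
  refine AddCommGrpCat.hom_ext (AddMonoidHom.ext fun s => ?_)
  change (show Γ(D.term p, W.unop) from s) = 0
  choose V hVW hxV hV0 using fun x : W.unop => key W.unop x.1 x.2
  refine TopCat.Sheaf.eq_of_locally_eq' ⟨(D.term p).presheaf, (D.term p).isSheaf⟩ V W.unop
    (fun x => homOfLE (hVW x)) (fun y hy => Opens.mem_iSup.mpr ⟨⟨y, hy⟩, hxV ⟨y, hy⟩⟩) _ _ fun x => ?_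
  exact (hV0 x).elim _ _

end Groth.Agent.H26Hyper
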